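import Mathlib
import Groth.Agent.H5.KInjDeriv

/-!
# Abstract derived-category lemmas for Mayer–Vietoris triangles
-/

set_option autoImplicit false
universe w w' v v' u u'
open CategoryTheory CategoryTheory.Limits CategoryTheory.Pretriangulated

namespace Groth.Agent.H33.MV

section

variable {A : Type u} [Category.{v} A] [Abelian A] {B : Type u'} [Category.{v'} B] [Abelian B]
  [HasDerivedCategory.{w'} B]

/-- A sequence of additive functors `H₁ ⟶ H₂ ⟶ H₃` which is short exact on each term of a complex
`I` gives a distinguished triangle in the derived category. -/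
theorem exists_triangle_of_natTrans {H₁ H₂ H₃ : A ⥤ B} [H₁.Additive] [H₂.Additive] [H₃.Additive]
    (a : H₁ ⟶ H₂) (b : H₂ ⟶ H₃) (hab : ∀ M, a.app M ≫ b.app M = 0)
    (I : CochainComplex A ℤ)
    (hI : ∀ n, (ShortComplex.mk (a.app (I.X n)) (b.app (I.X n)) (hab _)).ShortExact) :
    ∃ c : DerivedCategory.Q.obj ((H₃.mapHomologicalComplex (ComplexShape.up ℤ)).obj I) ⟶
        (DerivedCategory.Q.obj ((H₁.mapHomologicalComplex (ComplexShape.up ℤ)).obj I))⟦(1 : ℤ)⟧,
      Triangle.mk
        (DerivedCategory.Q.map ((NatTrans.mapHomologicalComplex a (ComplexShape.up ℤ)).app I))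
        (DerivedCategory.Q.map ((NatTrans.mapHomologicalComplex b (ComplexShape.up ℤ)).app I)) c ∈
        distTriang (DerivedCategory B) := by
  let S : ShortComplex (CochainComplex B ℤ) :=
    ShortComplex.mk ((NatTrans.mapHomologicalComplex a (ComplexShape.up ℤ)).app I)
      ((NatTrans.mapHomologicalComplex b (ComplexShape.up ℤ)).app I) (by
        ext n
        dsimp
        exact hab (I.X n))
  have hS : S.ShortExact := HomologicalComplex.shortExact_of_degreewise_shortExact S
    (fun n => hI n)
  exact ⟨DerivedCategory.triangleOfSESδ hS, DerivedCategory.triangleOfSES_distinguished hS⟩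

/-- A functorial biproduct decomposition `T = P₁ ⊕ P₂` gives a biproduct decomposition in the
derived category after applying the functors termwise to any complex. -/
theorem nonempty_iso_biprod_of_natTrans {P₁ P₂ T : A ⥤ B} [P₁.Additive] [P₂.Additive] [T.Additive]
    (inl : P₁ ⟶ T) (inr : P₂ ⟶ T) (fst : T ⟶ P₁) (snd : T ⟶ P₂)
    (h1 : ∀ M, inl.app M ≫ fst.app M = 𝟙 _) (h2 : ∀ M, inl.app M ≫ snd.app M = 0)
    (h3 : ∀ M, inr.app M ≫ fst.app M = 0) (h4 : ∀ M, inr.app M ≫ snd.app M = 𝟙 _)
    (h5 : ∀ M, fst.app M ≫ inl.app M + snd.app M ≫ inr.app M = 𝟙 _)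
    (I : CochainComplex A ℤ)
    [HasBinaryBiproduct
      (DerivedCategory.Q.obj ((P₁.mapHomologicalComplex (ComplexShape.up ℤ)).obj I))
      (DerivedCategory.Q.obj ((P₂.mapHomologicalComplex (ComplexShape.up ℤ)).obj I))] :
    Nonempty (DerivedCategory.Q.obj ((T.mapHomologicalComplex (ComplexShape.up ℤ)).obj I) ≅
      DerivedCategory.Q.obj ((P₁.mapHomologicalComplex (ComplexShape.up ℤ)).obj I) ⊞
      DerivedCategory.Q.obj ((P₂.mapHomologicalComplex (ComplexShape.up ℤ)).obj I)) := by
  let m := fun {F G : A ⥤ B} [F.Additive] [G.Additive] (τ : F ⟶ G) =>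
    (NatTrans.mapHomologicalComplex τ (ComplexShape.up ℤ)).app I
  let bc : BinaryBicone
      (DerivedCategory.Q.obj ((P₁.mapHomologicalComplex (ComplexShape.up ℤ)).obj I))
      (DerivedCategory.Q.obj ((P₂.mapHomologicalComplex (ComplexShape.up ℤ)).obj I)) :=
    { pt := DerivedCategory.Q.obj ((T.mapHomologicalComplex (ComplexShape.up ℤ)).obj I)
      fst := DerivedCategory.Q.map (m fst)
      snd := DerivedCategory.Q.map (m snd)
      inl := DerivedCategory.Q.map (m inl)
      inr := DerivedCategory.Q.map (m inr)
      inl_fst := by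
        rw [← Functor.map_comp, ← CategoryTheory.Functor.map_id]
        congr 1
        ext n
        dsimp [m]
        exact h1 _
      inl_snd := by
        rw [← Functor.map_comp, ← Functor.map_zero DerivedCategory.Q]
        congr 1
        ext n
        dsimp [m]
        exact h2 _
      inr_fst := by
        rw [← Functor.map_comp, ← Functor.map_zero DerivedCategory.Q]
        congr 1
        ext n
        dsimp [m]
        exact h3 _
      inr_snd := by
        rw [← Functor.map_comp, ← CategoryTheory.Functor.map_id]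
        congr 1
        ext n
        dsimp [m]
        exact h4 _ }
  have hb : bc.IsBilimit := isBinaryBilimitOfTotal bc (by
    show DerivedCategory.Q.map (m fst) ≫ DerivedCategory.Q.map (m inl) +
      DerivedCategory.Q.map (m snd) ≫ DerivedCategory.Q.map (m inr) = 𝟙 _
    rw [← Functor.map_comp, ← Functor.map_comp, ← Functor.map_add, ← CategoryTheory.Functor.map_id]
    congr 1
    ext n
    dsimp [m]
    exact h5 _)
  exact ⟨biprod.uniqueUpToIso _ _ hb⟩

end

section

open Groth.Agent.H5.KInjDeriv

variable {A : Type u} [Category.{v} A] [Abelian A] {B : Type u'} [Category.{v'} B] [Abelian B]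
  [HasDerivedCategory.{w} A] [HasDerivedCategory.{w'} B]
  (hKinj : ∀ K : CochainComplex A ℤ, ∃ (I : CochainComplex A ℤ) (f : K ⟶ I),
    I.IsKInjective ∧ QuasiIso f)

include hKinj in
/-- The total right derived functor of `G` is computed termwise on K-injective complexes. -/
theorem nonempty_Q_iso_totalRightDerived (G : A ⥤ B) [G.Additive]
    [(G.mapHomotopyCategory (ComplexShape.up ℤ) ⋙ DerivedCategory.Qh).HasRightDerivedFunctor
      (HomotopyCategory.quasiIso A (ComplexShape.up ℤ))]
    (I : CochainComplex A ℤ) (hI : I.IsKInjective) :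
    Nonempty (DerivedCategory.Q.obj ((G.mapHomologicalComplex (ComplexShape.up ℤ)).obj I) ≅
      ((G.mapHomotopyCategory (ComplexShape.up ℤ) ⋙ DerivedCategory.Qh).totalRightDerived
        DerivedCategory.Qh (HomotopyCategory.quasiIso A (ComplexShape.up ℤ))).obj
          (DerivedCategory.Q.obj I)) := by
  have := isIso_totalRightDerivedUnit_app hKinj
    (G.mapHomotopyCategory (ComplexShape.up ℤ) ⋙ DerivedCategory.Qh) I hI
  exact ⟨(DerivedCategory.quotientCompQhIso B).symm.app _ ≪≫
    DerivedCategory.Qh.mapIso ((G.mapHomotopyCategoryFactors (ComplexShape.up ℤ)).symm.app I) ≪≫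
    asIso (((G.mapHomotopyCategory (ComplexShape.up ℤ) ⋙
      DerivedCategory.Qh).totalRightDerivedUnit DerivedCategory.Qh
      (HomotopyCategory.quasiIso A (ComplexShape.up ℤ))).app
        ((HomotopyCategory.quotient A (ComplexShape.up ℤ)).obj I)) ≪≫
    ((G.mapHomotopyCategory (ComplexShape.up ℤ) ⋙ DerivedCategory.Qh).totalRightDerived
        DerivedCategory.Qh (HomotopyCategory.quasiIso A (ComplexShape.up ℤ))).mapIso
      ((DerivedCategory.quotientCompQhIso A).app I)⟩

end

end Groth.Agent.H33.MV
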