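import Mathlib
import Groth.Agent.H31.MonoRestr
import Groth.Agent.H31.ModAcyc

/-!
# Injective sheaves of modules are flasque

For a totally acyclic abelian sheaf `G` on a site and a monomorphism `i : U ⟶ V`, the restriction
`G(V) → G(U)` is surjective. In particular this holds for the underlying abelian sheaf of an
injective sheaf of modules, and for injective `O_X`-modules on a scheme.
-/

set_option autoImplicit false
universe u
open CategoryTheory CategoryTheory.Limits Opposite

namespace Groth.Agent.H33.MV

open Groth.Agent.H31.SieveExt Groth.Agent.H31.LocTriv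

section Site

variable {C : Type u} [SmallCategory C] (J : GrothendieckTopology C)

/-- the sheaf of sets associated to a representable presheaf -/
noncomputable abbrev hS (U : C) : Sheaf J (Type u) :=
  (presheafToSheaf J (Type u)).obj (yoneda.obj U)

noncomputable abbrev hSMap {U V : C} (i : U ⟶ V) : hS J U ⟶ hS J V :=
  (presheafToSheaf J (Type u)).map (yoneda.map i)

instance mono_hSMap {U V : C} (i : U ⟶ V) [Mono i] : Mono (hSMap J i) := by
  have : Mono (yoneda.map i) := inferInstance
  exact (presheafToSheaf J (Type u)).map_mono _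

/-- `Hom(ℤ[h_U^#]^#, G) ≃ G(U)` -/
noncomputable def secEquiv (U : C) (G : Sheaf J AddCommGrpCat.{u}) :
    (Zs J (hS J U).obj ⟶ G) ≃ (setOf G).obj.obj (op U) :=
  (homEquivS (hS J U) G).trans
    (((sheafificationAdjunction J (Type u)).homEquiv (yoneda.obj U) (setOf G)).trans yonedaEquiv)

lemma secEquiv_naturality {U V : C} (i : U ⟶ V) (G : Sheaf J AddCommGrpCat.{u})
    (φ : Zs J (hS J V).obj ⟶ G) :
    secEquiv J U G (ZsMap (hSMap J i) ≫ φ) = (setOf G).obj.map i.op (secEquiv J V G φ) := by
  dsimp only [secEquiv, Equiv.trans_apply]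
  rw [homEquivS_naturality_left,
    (sheafificationAdjunction J (Type u)).homEquiv_naturality_left]
  exact (yonedaEquiv_naturality _ i).symm

theorem surjective_map_of_totallyAcyclic (G : Sheaf J AddCommGrpCat.{u})
    (hG : CohCx.IsTotallyAcyclic G) {U V : C} (i : U ⟶ V) [Mono i] :
    Function.Surjective ((setOf G).obj.map i.op) := by
  intro s
  obtain ⟨r, hr⟩ := Groth.Agent.H31.MonoRestr.restr_surjective G hG (hSMap J i)
    ((secEquiv J U G).symm s)
  refine ⟨secEquiv J V G r, ?_⟩
  rw [← secEquiv_naturality, hr, Equiv.apply_symm_apply]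

end Site

section Scheme

open AlgebraicGeometry

variable {X : Scheme.{u}}

/-- Injective `O_X`-modules are flasque. -/
theorem surjective_presheaf_map_of_injective (M : X.Modules) [Injective M] {O' O : X.Opens}
    (i : O' ⟶ O) : Function.Surjective (M.presheaf.map i.op) := by
  have hG := @Groth.Agent.H31.ModAcyc.totallyAcyclic_of_injective _ _ _ X.ringCatSheaf M ‹_›
  have : Mono i := ⟨fun _ _ _ => Subsingleton.elim _ _⟩
  exact surjective_map_of_totallyAcyclic (Opens.grothendieckTopology X) _ hG i

end Scheme

end Groth.Agent.H33.MV
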