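import Mathlib
import Groth.Agent.H33.MV.Flasque
import Groth.Agent.H33.SchemeDer.BaseChange
import Groth.Prelude.Def_DCoh3

/-!
# The Mayer–Vietoris sequence of an `O_X`-module
-/

set_option autoImplicit false
universe u
open CategoryTheory CategoryTheory.Limits Opposite AlgebraicGeometry Scheme.Modules

namespace Groth.Agent.H33.MV

variable {X : Scheme.{u}}

/-- `j_* j^*` for the open `U`. -/
noncomputable abbrev FF (U : X.Opens) : X.Modules ⥤ X.Modules :=
  restrictFunctor U.ι ⋙ pushforward U.ι

/-- the unit `M ⟶ j_* j^* M` -/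
noncomputable abbrev ηη (U : X.Opens) : 𝟭 X.Modules ⟶ FF U := (restrictAdjunction U.ι).unit

/-- `O ∩ U`, in the form in which it appears in sections of `j_* j^* M`. -/
abbrev cap (U O : X.Opens) : X.Opens := U.ι ''ᵁ (U.ι ⁻¹ᵁ O)

lemma cap_eq (U O : X.Opens) : cap U O = U ⊓ O := by
  rw [cap, Scheme.Hom.image_preimage_eq_opensRange_inf, Scheme.Opens.opensRange_ι]

lemma cap_le (U O : X.Opens) : cap U O ≤ O := U.ι.image_preimage_le O

lemma cap_mono (U : X.Opens) {O O' : X.Opens} (h : O ≤ O') : cap U O ≤ cap U O' := by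
  rw [cap_eq, cap_eq]; exact inf_le_inf_left _ h

lemma cap_anti {U W : X.Opens} (h : W ≤ U) (O : X.Opens) : cap W O ≤ cap U O := by
  rw [cap_eq, cap_eq]; exact inf_le_inf_right _ h

lemma ηη_app_app (U : X.Opens) (M : X.Modules) (O : X.Opens) :
    ((ηη U).app M).app O = M.presheaf.map (homOfLE (cap_le U O)).op := rfl

lemma FF_map_app (U : X.Opens) {M N : X.Modules} (φ : M ⟶ N) (O : X.Opens) :
    ((FF U).map φ).app O = φ.app (cap U O) := rfl

lemma FF_obj_presheaf_map (U : X.Opens) (M : X.Modules) {O O' : X.Opens} (i : O ⟶ O') :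
    ((FF U).obj M).presheaf.map i.op = M.presheaf.map (homOfLE (cap_mono U (leOfHom i))).op := rfl

lemma isIso_FF_map_ηη {U W : X.Opens} (h : W ≤ U) (M : X.Modules) :
    IsIso ((FF W).map ((ηη U).app M)) := by
  rw [Hom.isIso_iff_isIso_app]
  intro O
  rw [FF_map_app, ηη_app_app]
  apply Groth.Agent.H33.SchemeDer.isIso_presheaf_map_homOfLE
  rw [cap_eq, cap_eq]
  exact le_inf (inf_le_left.trans h) le_rfl

/-- the restriction `j_{U*} j_U^* M ⟶ j_{W*} j_W^* M` for `W ≤ U` -/
noncomputable def ββ {U W : X.Opens} (h : W ≤ U) : FF U ⟶ FF W where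
  app M :=
    haveI := isIso_FF_map_ηη h M
    (ηη W).app ((FF U).obj M) ≫ inv ((FF W).map ((ηη U).app M))
  naturality M N φ := by
    have := isIso_FF_map_ηη h M
    have := isIso_FF_map_ηη h N
    have h1 : (FF U).map φ ≫ (ηη W).app ((FF U).obj N) =
        (ηη W).app ((FF U).obj M) ≫ (FF W).map ((FF U).map φ) := (ηη W).naturality ((FF U).map φ)
    have h2 : (FF W).map φ ≫ (FF W).map ((ηη U).app N) =
        (FF W).map ((ηη U).app M) ≫ (FF W).map ((FF U).map φ) := by
      rw [← Functor.map_comp, ← Functor.map_comp]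
      congr 1
      exact (ηη U).naturality φ
    rw [← cancel_mono ((FF W).map ((ηη U).app N)), Category.assoc, Category.assoc,
      IsIso.inv_hom_id, Category.comp_id, Category.assoc, Category.assoc, h2,
      IsIso.inv_hom_id_assoc]
    exact h1

lemma ββ_app_comp {U W : X.Opens} (h : W ≤ U) (M : X.Modules) :
    (ββ h).app M ≫ (FF W).map ((ηη U).app M) = (ηη W).app ((FF U).obj M) := by
  have := isIso_FF_map_ηη h M
  simp [ββ]

lemma ηη_comp_ββ {U W : X.Opens} (h : W ≤ U) (M : X.Modules) :
    (ηη U).app M ≫ (ββ h).app M = (ηη W).app M := by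
  have := isIso_FF_map_ηη h M
  have h1 : (ηη U).app M ≫ (ηη W).app ((FF U).obj M) =
      (ηη W).app M ≫ (FF W).map ((ηη U).app M) := (ηη W).naturality ((ηη U).app M)
  simp only [ββ]
  rw [← Category.assoc, h1, Category.assoc, IsIso.hom_inv_id, Category.comp_id]

/-- sectionwise, `ββ` is the restriction map -/
lemma ββ_app_app {U W : X.Opens} (h : W ≤ U) (M : X.Modules) (O : X.Opens) :
    ((ββ h).app M).app O = M.presheaf.map (homOfLE (cap_anti h O)).op := by
  have := isIso_FF_map_ηη h M
  have h1 := congrArg (fun t => t.app O) (ββ_app_comp h M)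
  rw [Hom.comp_app, FF_map_app, ηη_app_app, ηη_app_app, FF_obj_presheaf_map] at h1
  have : IsIso (M.presheaf.map (homOfLE (cap_le U (cap W O))).op) := by
    apply Groth.Agent.H33.SchemeDer.isIso_presheaf_map_homOfLE
    rw [cap_eq, cap_eq]
    exact le_inf (inf_le_left.trans h) le_rfl
  refine (cancel_mono (M.presheaf.map (homOfLE (cap_le U (cap W O))).op)).1 ?_
  refine h1.trans ?_
  exact (congrArg (fun t => M.presheaf.map t) (Subsingleton.elim _ _)).trans
    (M.presheaf.map_comp _ _)

end Groth.Agent.H33.MV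

namespace Groth.Agent.H33.MV

variable {X : Scheme.{u}} (U V : X.Opens)

/-- `M ↦ j_{U*}j_U^* M ⊞ j_{V*} j_V^* M` -/
noncomputable abbrev GG : X.Modules ⥤ X.Modules where
  obj M := (FF U).obj M ⊞ (FF V).obj M
  map φ := biprod.map ((FF U).map φ) ((FF V).map φ)
  map_id M := by
    apply biprod.hom_ext <;> simp
  map_comp φ ψ := by
    apply biprod.hom_ext <;> simp

instance : (GG U V).Additive where
  map_add {M N φ ψ} := by
    apply biprod.hom_ext
    · simp only [GG, biprod.map_fst, Preadditive.add_comp, Functor.map_add, Preadditive.comp_add]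
    · simp only [GG, biprod.map_snd, Preadditive.add_comp, Functor.map_add, Preadditive.comp_add]

noncomputable def aa : 𝟭 X.Modules ⟶ GG U V where
  app M := biprod.lift ((ηη U).app M) ((ηη V).app M)
  naturality M N φ := by
    have h1 : φ ≫ (ηη U).app N = (ηη U).app M ≫ (FF U).map φ := (ηη U).naturality φ
    have h2 : φ ≫ (ηη V).app N = (ηη V).app M ≫ (FF V).map φ := (ηη V).naturality φ
    apply biprod.hom_ext
    · simp only [GG, Functor.id_map, Category.assoc, biprod.lift_fst, biprod.map_fst,
        biprod.lift_fst_assoc]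
      exact h1
    · simp only [GG, Functor.id_map, Category.assoc, biprod.lift_snd, biprod.map_snd,
        biprod.lift_snd_assoc]
      exact h2

noncomputable def bb : GG U V ⟶ FF (U ⊓ V) where
  app M := biprod.desc ((ββ (inf_le_left : U ⊓ V ≤ U)).app M)
    (-(ββ (inf_le_right : U ⊓ V ≤ V)).app M)
  naturality M N φ := by
    have h1 := (ββ (inf_le_left : U ⊓ V ≤ U)).naturality φ
    have h2 := (ββ (inf_le_right : U ⊓ V ≤ V)).naturality φ
    apply biprod.hom_ext'
    · simp only [GG, biprod.inl_map_assoc, biprod.inl_desc, biprod.inl_desc_assoc]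
      exact h1
    · simp only [GG, biprod.inr_map_assoc, biprod.inr_desc, biprod.inr_desc_assoc,
        Preadditive.comp_neg, Preadditive.neg_comp, neg_inj]
      exact h2

lemma aa_app (M : X.Modules) :
    (aa U V).app M = biprod.lift ((ηη U).app M) ((ηη V).app M) := rfl

lemma bb_app (M : X.Modules) :
    (bb U V).app M = biprod.desc ((ββ (inf_le_left : U ⊓ V ≤ U)).app M)
      (-(ββ (inf_le_right : U ⊓ V ≤ V)).app M) := rfl

lemma aa_bb_app (M : X.Modules) : (aa U V).app M ≫ (bb U V).app M = 0 := by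
  rw [aa_app, bb_app, biprod.lift_desc, Preadditive.comp_neg, ηη_comp_ββ, ηη_comp_ββ]
  exact add_neg_cancel _

noncomputable def inlGG : FF U ⟶ GG U V where
  app M := biprod.inl
  naturality M N φ := by simp [GG]

noncomputable def inrGG : FF V ⟶ GG U V where
  app M := biprod.inr
  naturality M N φ := by simp [GG]

noncomputable def fstGG : GG U V ⟶ FF U where
  app M := biprod.fst
  naturality M N φ := by simp [GG]

noncomputable def sndGG : GG U V ⟶ FF V where
  app M := biprod.snd
  naturality M N φ := by simp [GG]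

/-- the Mayer–Vietoris short complex of a module -/
noncomputable abbrev mvSC (M : X.Modules) : ShortComplex X.Modules :=
  ShortComplex.mk ((aa U V).app M) ((bb U V).app M) (aa_bb_app U V M)

end Groth.Agent.H33.MV
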