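import Mathlib
import Groth.Agent.H33.MV.Seq
import Groth.Agent.H30.SectSupp

/-!
# Sectionwise short exact sequences of `O_X`-modules; the Mayer–Vietoris sequence of an injective
-/

set_option autoImplicit false
universe u
open CategoryTheory CategoryTheory.Limits Opposite AlgebraicGeometry Scheme.Modules

namespace Groth.Agent.H33.MV

variable {X : Scheme.{u}}

/-- sectionwise short exactness of a short complex of `O_X`-modules -/
def SectSES (T : ShortComplex X.Modules) : Prop :=
  ∀ O : X.Opens, Function.Injective (T.f.app O) ∧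
    (∀ x, T.g.app O x = 0 → ∃ s, T.f.app O s = x) ∧ Function.Surjective (T.g.app O)

lemma mono_of_injective_app {M N : X.Modules} (φ : M ⟶ N)
    (h : ∀ O : X.Opens, Function.Injective (φ.app O)) : Mono φ := by
  have : Mono ((toPresheaf X).map φ) := by
    have : ∀ c, Mono (((toPresheaf X).map φ).app c) := fun c =>
      (AddCommGrpCat.mono_iff_injective _).2 (h c.unop)
    exact NatTrans.mono_of_mono_app _
  exact Functor.mono_of_mono_map (toPresheaf X) this

lemma epi_of_surjective_app {M N : X.Modules} (φ : M ⟶ N)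
    (h : ∀ O : X.Opens, Function.Surjective (φ.app O)) : Epi φ := by
  have : Epi ((toPresheaf X).map φ) := by
    have : ∀ c, Epi (((toPresheaf X).map φ).app c) := fun c =>
      (AddCommGrpCat.epi_iff_surjective _).2 (h c.unop)
    exact NatTrans.epi_of_epi_app _
  exact Functor.epi_of_epi_map (toPresheaf X) this

lemma injective_app_of_mono {M N : X.Modules} (φ : M ⟶ N) [Mono φ] (O : X.Opens) :
    Function.Injective (φ.app O) := by
  have h1 : Mono ((toPresheaf X).map φ) := inferInstance
  have h2 : Mono (((toPresheaf X).map φ).app (op O)) := inferInstance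
  exact (AddCommGrpCat.mono_iff_injective _).1 h2

theorem SectSES.shortExact {T : ShortComplex X.Modules} (hT : SectSES T) : T.ShortExact := by
  have hm : Mono T.f := mono_of_injective_app _ (fun O => (hT O).1)
  have he : Epi T.g := epi_of_surjective_app _ (fun O => (hT O).2.2)
  refine ShortComplex.ShortExact.mk (T.exact_iff_epi_kernel_lift.2 ?_)
  apply epi_of_surjective_app
  intro O k
  obtain ⟨s, hs⟩ := (hT O).2.1 ((kernel.ι T.g).app O k) (by
    rw [← ConcreteCategory.comp_apply, ← Hom.comp_app, kernel.condition]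
    rfl)
  refine ⟨s, ?_⟩
  apply injective_app_of_mono (kernel.ι T.g) O
  rw [← ConcreteCategory.comp_apply, ← Hom.comp_app, kernel.lift_ι]
  exact hs

end Groth.Agent.H33.MV

namespace Groth.Agent.H33.MV

variable {X : Scheme.{u}} (U V : X.Opens)

lemma fst_aa_apply (M : X.Modules) (O : X.Opens) (s : Γ(M, O)) :
    (biprod.fst : (GG U V).obj M ⟶ (FF U).obj M).app O (((aa U V).app M).app O s) =
      M.presheaf.map (homOfLE (cap_le U O)).op s := by
  rw [← ConcreteCategory.comp_apply, ← Hom.comp_app, aa_app, biprod.lift_fst, ηη_app_app]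
  rfl

lemma snd_aa_apply (M : X.Modules) (O : X.Opens) (s : Γ(M, O)) :
    (biprod.snd : (GG U V).obj M ⟶ (FF V).obj M).app O (((aa U V).app M).app O s) =
      M.presheaf.map (homOfLE (cap_le V O)).op s := by
  rw [← ConcreteCategory.comp_apply, ← Hom.comp_app, aa_app, biprod.lift_snd, ηη_app_app]
  rfl

lemma bb_apply (M : X.Modules) (O : X.Opens) (x : Γ((GG U V).obj M, O)) :
    ((bb U V).app M).app O x =
      M.presheaf.map (homOfLE (cap_anti (inf_le_left : U ⊓ V ≤ U) O)).op
        ((biprod.fst : (GG U V).obj M ⟶ (FF U).obj M).app O x) -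
      M.presheaf.map (homOfLE (cap_anti (inf_le_right : U ⊓ V ≤ V) O)).op
        ((biprod.snd : (GG U V).obj M ⟶ (FF V).obj M).app O x) := by
  have h : (bb U V).app M =
      (biprod.fst : (GG U V).obj M ⟶ (FF U).obj M) ≫ (ββ (inf_le_left : U ⊓ V ≤ U)).app M -
      (biprod.snd : (GG U V).obj M ⟶ (FF V).obj M) ≫ (ββ (inf_le_right : U ⊓ V ≤ V)).app M := by
    rw [bb_app, biprod.desc_eq, Preadditive.comp_neg, sub_eq_add_neg]
  rw [h, Hom.sub_app, Hom.comp_app, Hom.comp_app, ββ_app_app, ββ_app_app]
  rfl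

lemma GG_ext (M : X.Modules) (O : X.Opens) (x y : Γ((GG U V).obj M, O))
    (h1 : (biprod.fst : (GG U V).obj M ⟶ (FF U).obj M).app O x =
      (biprod.fst : (GG U V).obj M ⟶ (FF U).obj M).app O y)
    (h2 : (biprod.snd : (GG U V).obj M ⟶ (FF V).obj M).app O x =
      (biprod.snd : (GG U V).obj M ⟶ (FF V).obj M).app O y) : x = y := by
  have ht : ∀ z : Γ((GG U V).obj M, O), z =
      (biprod.inl : (FF U).obj M ⟶ (GG U V).obj M).app O
        ((biprod.fst : (GG U V).obj M ⟶ (FF U).obj M).app O z) +
      (biprod.inr : (FF V).obj M ⟶ (GG U V).obj M).app O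
        ((biprod.snd : (GG U V).obj M ⟶ (FF V).obj M).app O z) := by
    intro z
    have h := congrArg (fun t : (GG U V).obj M ⟶ (GG U V).obj M => t.app O z)
      (biprod.total (X := (FF U).obj M) (Y := (FF V).obj M))
    dsimp only at h
    rw [Hom.add_app, Hom.comp_app, Hom.comp_app, Hom.id_app] at h
    exact h.symm
  rw [ht x, ht y, h1, h2]

end Groth.Agent.H33.MV

namespace Groth.Agent.H33.MV

variable {X : Scheme.{u}} (U V : X.Opens)

lemma presheaf_map_map (M : X.Modules) {A B C : X.Opens} (i : A ⟶ B) (j : B ⟶ C) (k : A ⟶ C)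
    (x : Γ(M, C)) : M.presheaf.map i.op (M.presheaf.map j.op x) = M.presheaf.map k.op x := by
  rw [← ConcreteCategory.comp_apply, ← Functor.map_comp]
  rfl

lemma bb_inl_apply (M : X.Modules) (O : X.Opens) (x₁ : Γ((FF U).obj M, O)) :
    ((bb U V).app M).app O ((biprod.inl : (FF U).obj M ⟶ (GG U V).obj M).app O x₁) =
      M.presheaf.map (homOfLE (cap_anti (inf_le_left : U ⊓ V ≤ U) O)).op x₁ := by
  rw [← ConcreteCategory.comp_apply, ← Hom.comp_app, bb_app, biprod.inl_desc, ββ_app_app]
  rfl

/-- **The Mayer–Vietoris sequence of an injective `O_X`-module is sectionwise short exact.** -/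
theorem sectSES_mvSC (hUV : U ⊔ V = ⊤) (M : X.Modules) [Injective M] :
    SectSES (mvSC U V M) := by
  intro O
  have hcov : O ≤ cap U O ⊔ cap V O := by
    rw [cap_eq, cap_eq, ← inf_sup_right, hUV, top_inf_eq]
  refine ⟨?_, ?_, ?_⟩
  · -- injectivity
    intro s s' h
    have h' : ((aa U V).app M).app O s = ((aa U V).app M).app O s' := h
    apply TopCat.Sheaf.eq_of_locally_eq₂ (F := ⟨M.presheaf, M.isSheaf⟩)
      (homOfLE (cap_le U O)) (homOfLE (cap_le V O)) hcov
    · have := congrArg ((biprod.fst : (GG U V).obj M ⟶ (FF U).obj M).app O) h'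
      exact ((fst_aa_apply U V M O s).symm.trans this).trans (fst_aa_apply U V M O s')
    · have := congrArg ((biprod.snd : (GG U V).obj M ⟶ (FF V).obj M).app O) h'
      exact ((snd_aa_apply U V M O s).symm.trans this).trans (snd_aa_apply U V M O s')
  · -- exactness in the middle
    intro x hx
    have hx' : ((bb U V).app M).app O x = 0 := hx
    have hx'' := sub_eq_zero.1 ((bb_apply U V M O x).symm.trans hx')
    have hle : cap U O ⊓ cap V O ≤ cap (U ⊓ V) O := by
      rw [cap_eq, cap_eq, cap_eq]
      exact le_inf (le_inf (inf_le_left.trans inf_le_left) (inf_le_right.trans inf_le_left))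
        (inf_le_left.trans inf_le_right)
    have hc := congrArg (M.presheaf.map (homOfLE hle).op) hx''
    have hc' := ((presheaf_map_map M (homOfLE hle) _
      (homOfLE (inf_le_left : cap U O ⊓ cap V O ≤ cap U O)) _).symm.trans hc).trans
      (presheaf_map_map M (homOfLE hle) _
        (homOfLE (inf_le_right : cap U O ⊓ cap V O ≤ cap V O)) _)
    obtain ⟨s, hs1, hs2⟩ := Groth.Agent.H30.SectSupp.glue₂
      (⟨M.presheaf, M.isSheaf⟩ : CohTop.Ab X) (cap_le U O) (cap_le V O) hcov
      ((biprod.fst : (GG U V).obj M ⟶ (FF U).obj M).app O x)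
      ((biprod.snd : (GG U V).obj M ⟶ (FF V).obj M).app O x) hc'
    refine ⟨s, GG_ext U V M O _ _ ?_ ?_⟩
    · exact (fst_aa_apply U V M O s).trans hs1
    · exact (snd_aa_apply U V M O s).trans hs2
  · -- surjectivity
    intro y
    obtain ⟨x₁, hx₁⟩ := surjective_presheaf_map_of_injective M
      (homOfLE (cap_anti (inf_le_left : U ⊓ V ≤ U) O)) y
    exact ⟨(biprod.inl : (FF U).obj M ⟶ (GG U V).obj M).app O x₁,
      (bb_inl_apply U V M O x₁).trans hx₁⟩

end Groth.Agent.H33.MV
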