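import Mathlib
import Groth.Agent.H33.MV.Sect
import Groth.Agent.H33.MV.DerivedAbs
import Groth.Agent.H33.SchemeDer.Restrict
import Groth.Agent.H33.KInj.Main

/-!
# Mayer–Vietoris triangles in derived categories of `O_X`-modules (abstract form)
-/

set_option autoImplicit false
universe v' u' u
open CategoryTheory CategoryTheory.Limits CategoryTheory.Pretriangulated AlgebraicGeometry
  Scheme.Modules

attribute [local instance] HasDerivedCategory.standard

namespace Groth.Agent.H33.MV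

variable {X : Scheme.{u}} (U V : X.Opens) (hUV : U ⊔ V = ⊤)
  {B : Type u'} [Category.{v'} B] [Abelian B]
  (Φ : X.Modules ⥤ B) [Φ.Additive]
  (hΦ : ∀ T : ShortComplex X.Modules, SectSES T → (T.map Φ).ShortExact)

section vertex

variable {W : X.Opens} (ΨW : (W : Scheme.{u}).Modules ⥤ B) [ΨW.Additive]
  (eW : pushforward W.ι ⋙ Φ ≅ ΨW)
  (RΨW : DerivedCategory (W : Scheme.{u}).Modules ⥤ DerivedCategory B)
  (hRΨW : ∀ I' : CochainComplex (W : Scheme.{u}).Modules ℤ, I'.IsKInjective →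
    Nonempty (DerivedCategory.Q.obj ((ΨW.mapHomologicalComplex (ComplexShape.up ℤ)).obj I') ≅
      RΨW.obj (DerivedCategory.Q.obj I')))

include eW hRΨW in
/-- identification of the vertex `Q(Φ j_* j^* I)` with `RΨ (E|_W)` -/
lemma nonempty_vertex_iso (I : CochainComplex X.Modules ℤ) (hI : I.IsKInjective)
    (E : DerivedCategory X.Modules) (e₀ : DerivedCategory.Q.obj I ≅ E) :
    Nonempty (DerivedCategory.Q.obj
        (((FF W ⋙ Φ).mapHomologicalComplex (ComplexShape.up ℤ)).obj I) ≅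
      RΨW.obj ((DCoh.restrictD W.ι).obj E)) := by
  let θ : restrictFunctor W.ι ⋙ ΨW ≅ FF W ⋙ Φ :=
    (Functor.associator _ _ _ ≪≫ Functor.isoWhiskerLeft _ eW).symm
  let I' : CochainComplex (W : Scheme.{u}).Modules ℤ :=
    ((restrictFunctor W.ι).mapHomologicalComplex (ComplexShape.up ℤ)).obj I
  have hI' : I'.IsKInjective := Groth.Agent.H33.SchemeDer.isKInjective_restrict W I hI
  obtain ⟨i2⟩ := hRΨW I' hI'
  let i1 : ((FF W ⋙ Φ).mapHomologicalComplex (ComplexShape.up ℤ)).obj I ≅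
      (ΨW.mapHomologicalComplex (ComplexShape.up ℤ)).obj I' :=
    ((Functor.mapHomologicalComplexCompIso θ (ComplexShape.up ℤ)).app I).symm
  let i3 : DerivedCategory.Q.obj I' ≅ (DCoh.restrictD W.ι).obj (DerivedCategory.Q.obj I) :=
    ((restrictFunctor W.ι).mapDerivedCategoryFactors.app I).symm
  exact ⟨DerivedCategory.Q.mapIso i1 ≪≫ i2 ≪≫ RΨW.mapIso (i3 ≪≫ (DCoh.restrictD W.ι).mapIso e₀)⟩

end vertex

variable (ΨU : (U : Scheme.{u}).Modules ⥤ B) [ΨU.Additive]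
  (ΨV : (V : Scheme.{u}).Modules ⥤ B) [ΨV.Additive]
  (ΨW : ((U ⊓ V : X.Opens) : Scheme.{u}).Modules ⥤ B) [ΨW.Additive]
  (eU : pushforward U.ι ⋙ Φ ≅ ΨU) (eV : pushforward V.ι ⋙ Φ ≅ ΨV)
  (eW : pushforward (U ⊓ V).ι ⋙ Φ ≅ ΨW)
  (RΦ : DerivedCategory X.Modules ⥤ DerivedCategory B)
  (hRΦ : ∀ I : CochainComplex X.Modules ℤ, I.IsKInjective →
    Nonempty (DerivedCategory.Q.obj ((Φ.mapHomologicalComplex (ComplexShape.up ℤ)).obj I) ≅
      RΦ.obj (DerivedCategory.Q.obj I)))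
  (RΨU : DerivedCategory (U : Scheme.{u}).Modules ⥤ DerivedCategory B)
  (hRΨU : ∀ I' : CochainComplex (U : Scheme.{u}).Modules ℤ, I'.IsKInjective →
    Nonempty (DerivedCategory.Q.obj ((ΨU.mapHomologicalComplex (ComplexShape.up ℤ)).obj I') ≅
      RΨU.obj (DerivedCategory.Q.obj I')))
  (RΨV : DerivedCategory (V : Scheme.{u}).Modules ⥤ DerivedCategory B)
  (hRΨV : ∀ I' : CochainComplex (V : Scheme.{u}).Modules ℤ, I'.IsKInjective →
    Nonempty (DerivedCategory.Q.obj ((ΨV.mapHomologicalComplex (ComplexShape.up ℤ)).obj I') ≅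
      RΨV.obj (DerivedCategory.Q.obj I')))
  (RΨW : DerivedCategory ((U ⊓ V : X.Opens) : Scheme.{u}).Modules ⥤ DerivedCategory B)
  (hRΨW : ∀ I' : CochainComplex ((U ⊓ V : X.Opens) : Scheme.{u}).Modules ℤ, I'.IsKInjective →
    Nonempty (DerivedCategory.Q.obj ((ΨW.mapHomologicalComplex (ComplexShape.up ℤ)).obj I') ≅
      RΨW.obj (DerivedCategory.Q.obj I')))

include hUV hΦ eU eV eW hRΦ hRΨU hRΨV hRΨW in
/-- **Abstract Mayer–Vietoris triangle.** -/
theorem exists_mv_triangle (E : DerivedCategory X.Modules) :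
    ∃ (a : RΦ.obj E ⟶ RΨU.obj ((DCoh.restrictD U.ι).obj E) ⊞ RΨV.obj ((DCoh.restrictD V.ι).obj E))
      (b : RΨU.obj ((DCoh.restrictD U.ι).obj E) ⊞ RΨV.obj ((DCoh.restrictD V.ι).obj E) ⟶
        RΨW.obj ((DCoh.restrictD (U ⊓ V).ι).obj E))
      (c : RΨW.obj ((DCoh.restrictD (U ⊓ V).ι).obj E) ⟶ (RΦ.obj E)⟦(1 : ℤ)⟧),
      Triangle.mk a b c ∈ distTriang (DerivedCategory B) := by
  -- a K-injective resolution with injective terms
  obtain ⟨I, f, hI, hf, -, hinj⟩ := Groth.Agent.H33.KInj.exists_kInjective_resolution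
    (DerivedCategory.Q.objPreimage E)
  have : IsIso (DerivedCategory.Q.map f) := by
    rw [DerivedCategory.isIso_Q_map_iff_quasiIso]; exact hf
  let e₀ : DerivedCategory.Q.obj I ≅ E :=
    (asIso (DerivedCategory.Q.map f)).symm ≪≫ DerivedCategory.Q.objObjPreimageIso E
  -- the triangle
  have hab : ∀ M, (Functor.whiskerRight (aa U V) Φ).app M ≫
      (Functor.whiskerRight (bb U V) Φ).app M = 0 := fun M => by
    dsimp
    rw [← Functor.map_comp, aa_bb_app, Functor.map_zero]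
  obtain ⟨c₀, hT₀⟩ := exists_triangle_of_natTrans (Functor.whiskerRight (aa U V) Φ)
    (Functor.whiskerRight (bb U V) Φ) hab I (fun n => by
      have := hinj n
      exact hΦ _ (sectSES_mvSC U V hUV (I.X n)))
  -- the vertices
  obtain ⟨v₁'⟩ := hRΦ I hI
  let v₁ : DerivedCategory.Q.obj (((𝟭 X.Modules ⋙ Φ).mapHomologicalComplex
      (ComplexShape.up ℤ)).obj I) ≅ RΦ.obj E :=
    DerivedCategory.Q.mapIso
      ((NatIso.mapHomologicalComplex Φ.leftUnitor (ComplexShape.up ℤ)).app I) ≪≫ v₁' ≪≫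
      RΦ.mapIso e₀
  obtain ⟨wU⟩ := nonempty_vertex_iso Φ ΨU eU RΨU hRΨU I hI E e₀
  obtain ⟨wV⟩ := nonempty_vertex_iso Φ ΨV eV RΨV hRΨV I hI E e₀
  obtain ⟨v₃⟩ := nonempty_vertex_iso Φ ΨW eW RΨW hRΨW I hI E e₀
  obtain ⟨v₂'⟩ := nonempty_iso_biprod_of_natTrans
    (Functor.whiskerRight (inlGG U V) Φ) (Functor.whiskerRight (inrGG U V) Φ)
    (Functor.whiskerRight (fstGG U V) Φ) (Functor.whiskerRight (sndGG U V) Φ)
    (fun M => by
      dsimp [inlGG, fstGG]
      rw [← Functor.map_comp, biprod.inl_fst, CategoryTheory.Functor.map_id])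
    (fun M => by
      dsimp [inlGG, sndGG]
      rw [← Functor.map_comp, biprod.inl_snd, Functor.map_zero])
    (fun M => by
      dsimp [inrGG, fstGG]
      rw [← Functor.map_comp, biprod.inr_fst, Functor.map_zero])
    (fun M => by
      dsimp [inrGG, sndGG]
      rw [← Functor.map_comp, biprod.inr_snd, CategoryTheory.Functor.map_id])
    (fun M => by
      dsimp [inlGG, inrGG, fstGG, sndGG]
      rw [← Functor.map_comp, ← Functor.map_comp, ← Functor.map_add, biprod.total,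
        CategoryTheory.Functor.map_id]) I
  let v₂ := v₂' ≪≫ biprod.mapIso wU wV
  obtain ⟨qa, hqa⟩ : ∃ qa, qa = DerivedCategory.Q.map
      ((NatTrans.mapHomologicalComplex (Functor.whiskerRight (aa U V) Φ)
        (ComplexShape.up ℤ)).app I) := ⟨_, rfl⟩
  obtain ⟨qb, hqb⟩ : ∃ qb, qb = DerivedCategory.Q.map
      ((NatTrans.mapHomologicalComplex (Functor.whiskerRight (bb U V) Φ)
        (ComplexShape.up ℤ)).app I) := ⟨_, rfl⟩
  rw [← hqa, ← hqb] at hT₀
  refine ⟨v₁.inv ≫ qa ≫ v₂.hom, v₂.inv ≫ qb ≫ v₃.hom, v₃.inv ≫ c₀ ≫ v₁.hom⟦(1 : ℤ)⟧', ?_⟩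
  refine isomorphic_distinguished _ hT₀ _ (Triangle.isoMk _ _ v₁.symm v₂.symm v₃.symm ?_ ?_ ?_)
  · show (v₁.inv ≫ qa ≫ v₂.hom) ≫ v₂.inv = v₁.inv ≫ qa
    rw [Category.assoc, Category.assoc, Iso.hom_inv_id, Category.comp_id]
  · show (v₂.inv ≫ qb ≫ v₃.hom) ≫ v₃.inv = v₂.inv ≫ qb
    rw [Category.assoc, Category.assoc, Iso.hom_inv_id, Category.comp_id]
  · show (v₃.inv ≫ c₀ ≫ v₁.hom⟦(1 : ℤ)⟧') ≫ v₁.inv⟦(1 : ℤ)⟧' = v₃.inv ≫ c₀
    rw [Category.assoc, Category.assoc, ← Functor.map_comp, Iso.hom_inv_id,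
      CategoryTheory.Functor.map_id, Category.comp_id]

end Groth.Agent.H33.MV
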