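import Mathlib
import Groth.Agent.H33.MV.Main
import Groth.Prelude.Def_DCoh3

/-!
# Instances of the abstract Mayer–Vietoris triangle
-/

set_option autoImplicit false
universe u
open CategoryTheory CategoryTheory.Limits CategoryTheory.Pretriangulated AlgebraicGeometry
  Scheme.Modules

attribute [local instance] HasDerivedCategory.standard

namespace Groth.Agent.H33.MV

variable {X : Scheme.{u}}

lemma hΦ_id (T : ShortComplex X.Modules) (hT : SectSES T) :
    (T.map (𝟭 X.Modules)).ShortExact := hT.shortExact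

lemma hΦ_push {Y : Scheme.{u}} (f : X ⟶ Y) (T : ShortComplex X.Modules) (hT : SectSES T) :
    (T.map (pushforward f)).ShortExact := by
  apply SectSES.shortExact
  intro O
  exact hT (f ⁻¹ᵁ O)

lemma hΦ_gamma (T : ShortComplex X.Modules) (hT : SectSES T) :
    (T.map (DCoh.gammaAb X)).ShortExact := by
  obtain ⟨h1, h2, h3⟩ := hT ⊤
  have hm : Mono (T.map (DCoh.gammaAb X)).f := (AddCommGrpCat.mono_iff_injective _).2 h1
  have he : Epi (T.map (DCoh.gammaAb X)).g := (AddCommGrpCat.epi_iff_surjective _).2 h3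
  refine ShortComplex.ShortExact.mk ?_
  rw [ShortComplex.ab_exact_iff]
  intro x hx
  exact h2 x hx

/-- the derived pushforward is computed termwise on K-injectives -/
lemma hR_push {X Y : Scheme.{u}} (f : X ⟶ Y) [DCoh.HasRpush f]
    (I : CochainComplex X.Modules ℤ) (hI : I.IsKInjective) :
    Nonempty (DerivedCategory.Q.obj
      (((pushforward f).mapHomologicalComplex (ComplexShape.up ℤ)).obj I) ≅
      (DCoh.Rpush f).obj (DerivedCategory.Q.obj I)) :=
  nonempty_Q_iso_totalRightDerived (Groth.Agent.H33.SchemeDer.hKinj X) (pushforward f) I hI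

lemma hR_gamma (X : Scheme.{u}) [DCoh.HasRΓ X]
    (I : CochainComplex X.Modules ℤ) (hI : I.IsKInjective) :
    Nonempty (DerivedCategory.Q.obj
      (((DCoh.gammaAb X).mapHomologicalComplex (ComplexShape.up ℤ)).obj I) ≅
      (DCoh.RΓ X).obj (DerivedCategory.Q.obj I)) :=
  nonempty_Q_iso_totalRightDerived (Groth.Agent.H33.SchemeDer.hKinj X) (DCoh.gammaAb X) I hI

lemma hR_id (I : CochainComplex X.Modules ℤ) :
    Nonempty (DerivedCategory.Q.obj
      (((𝟭 X.Modules).mapHomologicalComplex (ComplexShape.up ℤ)).obj I) ≅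
      (𝟭 (DerivedCategory X.Modules)).obj (DerivedCategory.Q.obj I)) :=
  ⟨DerivedCategory.Q.mapIso ((Functor.mapHomologicalComplexIdIso _ _).app I)⟩

/-- `Γ(X, j_* N) = Γ(U, N)` -/
noncomputable def gammaPushIso (U : X.Opens) :
    pushforward U.ι ⋙ DCoh.gammaAb X ≅ DCoh.gammaAb (U : Scheme.{u}) :=
  NatIso.ofComponents (fun N => Iso.refl _) (fun {N N'} f =>
    (Category.comp_id ((DCoh.gammaAb X).map ((pushforward U.ι).map f))).trans
      (Eq.trans (by rfl) (Category.id_comp ((DCoh.gammaAb (U : Scheme.{u})).map f)).symm))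

end Groth.Agent.H33.MV
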