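import Mathlib

/-!
# Testing short exactness against injective objects; conjugate natural transformations and hom-sets
-/

set_option autoImplicit false
universe v u v' u'
open CategoryTheory CategoryTheory.Limits

namespace Groth.Agent.H33.MV

section HomTest

variable {A : Type u} [Category.{v} A] [Abelian A] [EnoughInjectives A]

/-- A short complex `S` in an abelian category with enough injectives is short exact as soon as
`0 → Hom(X₃, I) → Hom(X₂, I) → Hom(X₁, I) → 0` is exact for every injective `I`. -/
theorem shortExact_of_hom_test (S : ShortComplex A)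
    (h1 : ∀ (I : A) [Injective I] (e : S.X₃ ⟶ I), S.g ≫ e = 0 → e = 0)
    (h2 : ∀ (I : A) [Injective I] (s : S.X₁ ⟶ I), ∃ t : S.X₂ ⟶ I, S.f ≫ t = s)
    (h3 : ∀ (I : A) [Injective I] (t : S.X₂ ⟶ I), S.f ≫ t = 0 → ∃ e : S.X₃ ⟶ I, S.g ≫ e = t) :
    S.ShortExact := by
  have hepi : Epi S.g := by
    refine ⟨fun {Z} a b hab => ?_⟩
    have : S.g ≫ ((a - b) ≫ Injective.ι Z) = 0 := by
      rw [← Category.assoc, Preadditive.comp_sub, hab, sub_self, zero_comp]
    have h := h1 (Injective.under Z) _ this
    have h' : a - b = 0 := by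
      rw [← cancel_mono (Injective.ι Z), h, zero_comp]
    exact sub_eq_zero.1 h'
  have hmono : Mono S.f := by
    rw [Preadditive.mono_iff_cancel_zero]
    intro K k hk
    obtain ⟨t, ht⟩ := h2 (Injective.under S.X₁) (Injective.ι S.X₁)
    rw [← cancel_mono (Injective.ι S.X₁), zero_comp, ← ht, ← Category.assoc, hk, zero_comp]
  refine ShortComplex.ShortExact.mk (S.exact_iff_mono_cokernel_desc.2 ?_)
  rw [Preadditive.mono_iff_cancel_zero]
  intro K k hk
  -- extend `K → I` along the mono? We only have `k : K ⟶ cokernel S.f`; use the image of `k`.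
  let C := cokernel S.f
  let I := Injective.under C
  obtain ⟨e, he⟩ := h3 I (cokernel.π S.f ≫ Injective.ι C) (by
    rw [← Category.assoc, cokernel.condition, zero_comp])
  have h4 : Injective.ι C = cokernel.desc S.f S.g S.zero ≫ e := by
    rw [← cancel_epi (cokernel.π S.f), ← Category.assoc, cokernel.π_desc, he]
  rw [← cancel_mono (Injective.ι C), zero_comp, h4, ← Category.assoc, hk, zero_comp]

end HomTest

section Conj

variable {C : Type u} [Category.{v} C] {D : Type u'} [Category.{v'} D]
  {L₁ L₂ : C ⥤ D} {R₁ R₂ : D ⥤ C} (adj₁ : L₁ ⊣ R₁) (adj₂ : L₂ ⊣ R₂)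

/-- compatibility of conjugate natural transformations with the hom-set bijections -/
lemma homEquiv_conjugateEquiv_symm (α : R₁ ⟶ R₂) {X : C} {Y : D} (h : L₁.obj X ⟶ Y) :
    adj₂.homEquiv X Y (((conjugateEquiv adj₁ adj₂).symm α).app X ≫ h) =
      adj₁.homEquiv X Y h ≫ α.app Y := by
  rw [Adjunction.homEquiv_unit, Adjunction.homEquiv_unit, Functor.map_comp,
    ← Category.assoc, ← unit_conjugateEquiv_symm, Category.assoc, Category.assoc,
    α.naturality]

end Conj

end Groth.Agent.H33.MV
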