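import Mathlib
import Groth.Agent.H33.MV.Sect
import Groth.Agent.H33.MV.HomTest
import Groth.Agent.H33.SchemeDer.Restrict
import Groth.Prelude.Def_CxOX

/-!
# The Mayer–Vietoris sequence for extension by zero
-/

set_option autoImplicit false
universe u
open CategoryTheory CategoryTheory.Limits AlgebraicGeometry Scheme.Modules

namespace Groth.Agent.H33.MV

variable {X : Scheme.{u}}

/-- `j_! j^*` -/
noncomputable abbrev LL (U : X.Opens) : X.Modules ⥤ X.Modules :=
  restrictFunctor U.ι ⋙ CxOX.extZero U.ι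

/-- the adjunction `j_! j^* ⊣ j_* j^*` -/
noncomputable def adjLL (U : X.Opens) : LL U ⊣ FF U :=
  (restrictAdjunction U.ι).comp (CxOX.extZeroAdj U.ι)

/-- the counit `j_! j^* ⟶ 𝟭`, as the conjugate of the unit `𝟭 ⟶ j_* j^*` -/
noncomputable def cc (U : X.Opens) : LL U ⟶ 𝟭 X.Modules :=
  (conjugateEquiv Adjunction.id (adjLL U)).symm (ηη U)

/-- `j_{W!} j_W^* ⟶ j_{U!} j_U^*` for `W ≤ U`, as the conjugate of the restriction -/
noncomputable def γγ {U W : X.Opens} (h : W ≤ U) : LL W ⟶ LL U :=
  (conjugateEquiv (adjLL U) (adjLL W)).symm (ββ h)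

lemma homEquiv_cc (U : X.Opens) {M N : X.Modules} (e : M ⟶ N) :
    (adjLL U).homEquiv M N ((cc U).app M ≫ e) = e ≫ (ηη U).app N := by
  have := homEquiv_conjugateEquiv_symm Adjunction.id (adjLL U) (ηη U) (X := M) (Y := N) e
  refine this.trans ?_
  congr 1

lemma homEquiv_γγ {U W : X.Opens} (h : W ≤ U) {M N : X.Modules} (t : (LL U).obj M ⟶ N) :
    (adjLL W).homEquiv M N ((γγ h).app M ≫ t) = (adjLL U).homEquiv M N t ≫ (ββ h).app N :=
  homEquiv_conjugateEquiv_symm (adjLL U) (adjLL W) (ββ h) t

instance additive_LL (U : X.Opens) : (LL U).Additive := by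
  have : (CxOX.extZero U.ι).Additive := CxOX.additive_extZero U.ι
  infer_instance

lemma homEquiv_sub (U : X.Opens) {M N : X.Modules} (a b : (LL U).obj M ⟶ N) :
    (adjLL U).homEquiv M N (a - b) = (adjLL U).homEquiv M N a - (adjLL U).homEquiv M N b := by
  rw [Adjunction.homEquiv_unit, Adjunction.homEquiv_unit, Adjunction.homEquiv_unit,
    Functor.map_sub, Preadditive.comp_sub]

lemma homEquiv_neg (U : X.Opens) {M N : X.Modules} (a : (LL U).obj M ⟶ N) :
    (adjLL U).homEquiv M N (-a) = -(adjLL U).homEquiv M N a := by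
  rw [Adjunction.homEquiv_unit, Adjunction.homEquiv_unit, Functor.map_neg, Preadditive.comp_neg]

variable (U V : X.Opens)

/-- `M ↦ j_{U!}j_U^* M ⊞ j_{V!} j_V^* M` -/
noncomputable abbrev GLL : X.Modules ⥤ X.Modules where
  obj M := (LL U).obj M ⊞ (LL V).obj M
  map φ := biprod.map ((LL U).map φ) ((LL V).map φ)
  map_id M := by
    apply biprod.hom_ext <;> simp
  map_comp φ ψ := by
    apply biprod.hom_ext <;> simp

instance : (GLL U V).Additive where
  map_add {M N φ ψ} := by
    apply biprod.hom_ext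
    · simp only [GLL, biprod.map_fst, Preadditive.add_comp, Functor.map_add, Preadditive.comp_add]
    · simp only [GLL, biprod.map_snd, Preadditive.add_comp, Functor.map_add, Preadditive.comp_add]

noncomputable def ff : LL (U ⊓ V) ⟶ GLL U V where
  app M := biprod.lift ((γγ (inf_le_left : U ⊓ V ≤ U)).app M)
    (-(γγ (inf_le_right : U ⊓ V ≤ V)).app M)
  naturality M N φ := by
    have h1 := (γγ (inf_le_left : U ⊓ V ≤ U)).naturality φ
    have h2 := (γγ (inf_le_right : U ⊓ V ≤ V)).naturality φ
    apply biprod.hom_ext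
    · simp only [GLL, Category.assoc, biprod.lift_fst, biprod.map_fst, biprod.lift_fst_assoc]
      exact h1
    · simp only [GLL, Category.assoc, biprod.lift_snd, biprod.map_snd, biprod.lift_snd_assoc,
        Preadditive.comp_neg, Preadditive.neg_comp, neg_inj]
      exact h2

noncomputable def gg : GLL U V ⟶ 𝟭 X.Modules where
  app M := biprod.desc ((cc U).app M) ((cc V).app M)
  naturality M N φ := by
    have h1 := (cc U).naturality φ
    have h2 := (cc V).naturality φ
    apply biprod.hom_ext'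
    · simp only [GLL, biprod.inl_map_assoc, biprod.inl_desc, biprod.inl_desc_assoc]
      exact h1
    · simp only [GLL, biprod.inr_map_assoc, biprod.inr_desc, biprod.inr_desc_assoc]
      exact h2

lemma ff_app (M : X.Modules) :
    (ff U V).app M = biprod.lift ((γγ (inf_le_left : U ⊓ V ≤ U)).app M)
      (-(γγ (inf_le_right : U ⊓ V ≤ V)).app M) := rfl

lemma gg_app (M : X.Modules) :
    (gg U V).app M = biprod.desc ((cc U).app M) ((cc V).app M) := rfl

noncomputable def inlGL : LL U ⟶ GLL U V where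
  app M := biprod.inl
  naturality M N φ := by simp [GLL]

noncomputable def inrGL : LL V ⟶ GLL U V where
  app M := biprod.inr
  naturality M N φ := by simp [GLL]

noncomputable def fstGL : GLL U V ⟶ LL U where
  app M := biprod.fst
  naturality M N φ := by simp [GLL]

noncomputable def sndGL : GLL U V ⟶ LL V where
  app M := biprod.snd
  naturality M N φ := by simp [GLL]

end Groth.Agent.H33.MV

namespace Groth.Agent.H33.MV

variable {X : Scheme.{u}} (U V : X.Opens)

lemma homEquiv_zero (U : X.Opens) (M N : X.Modules) :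
    (adjLL U).homEquiv M N 0 = 0 := by
  rw [Adjunction.homEquiv_unit, Functor.map_zero, comp_zero]

lemma γγ_cc {U W : X.Opens} (h : W ≤ U) (M : X.Modules) :
    (γγ h).app M ≫ (cc U).app M = (cc W).app M := by
  apply ((adjLL W).homEquiv M M).injective
  have h1 : (adjLL U).homEquiv M M ((cc U).app M) = (ηη U).app M := by
    have := homEquiv_cc U (𝟙 M)
    erw [Category.comp_id, Category.id_comp] at this
    exact this
  have h2 : (adjLL W).homEquiv M M ((cc W).app M) = (ηη W).app M := by
    have := homEquiv_cc W (𝟙 M)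
    erw [Category.comp_id, Category.id_comp] at this
    exact this
  rw [homEquiv_γγ, h1, h2, ηη_comp_ββ]

lemma ff_gg_app (M : X.Modules) : (ff U V).app M ≫ (gg U V).app M = 0 := by
  rw [ff_app, gg_app, biprod.lift_desc, Preadditive.neg_comp, γγ_cc, γγ_cc]
  exact add_neg_cancel _

/-- the Mayer–Vietoris short complex for extension by zero -/
noncomputable abbrev mvExtSC (M : X.Modules) : ShortComplex X.Modules :=
  ShortComplex.mk ((ff U V).app M) ((gg U V).app M) (ff_gg_app U V M)

/-- transposition of a map out of `j_{U!}j_U^*M ⊞ j_{V!}j_V^*M` -/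
noncomputable def ΘΘ (M I : X.Modules) (t : (GLL U V).obj M ⟶ I) : M ⟶ (GG U V).obj I :=
  biprod.lift ((adjLL U).homEquiv M I (biprod.inl ≫ t)) ((adjLL V).homEquiv M I (biprod.inr ≫ t))

lemma ΘΘ_injective (M I : X.Modules) : Function.Injective (ΘΘ U V M I) := by
  intro t t' h
  have h1 := congrArg (fun k => k ≫ (biprod.fst : (GG U V).obj I ⟶ _)) h
  have h2 := congrArg (fun k => k ≫ (biprod.snd : (GG U V).obj I ⟶ _)) h
  simp only [ΘΘ, biprod.lift_fst, biprod.lift_snd] at h1 h2
  apply biprod.hom_ext'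
  · exact ((adjLL U).homEquiv M I).injective h1
  · exact ((adjLL V).homEquiv M I).injective h2

lemma ΘΘ_surjective (M I : X.Modules) : Function.Surjective (ΘΘ U V M I) := by
  intro h
  refine ⟨biprod.desc (((adjLL U).homEquiv M I).symm (h ≫ biprod.fst))
    (((adjLL V).homEquiv M I).symm (h ≫ biprod.snd)), ?_⟩
  apply biprod.hom_ext
  · simp only [ΘΘ, biprod.lift_fst, biprod.inl_desc, Equiv.apply_symm_apply]
  · simp only [ΘΘ, biprod.lift_snd, biprod.inr_desc, Equiv.apply_symm_apply]

lemma ΘΘ_gg (M I : X.Modules) (e : M ⟶ I) :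
    ΘΘ U V M I ((gg U V).app M ≫ e) = e ≫ (aa U V).app I := by
  apply biprod.hom_ext
  · simp only [ΘΘ, gg_app, aa_app, biprod.lift_fst, biprod.inl_desc_assoc, Category.assoc,
      homEquiv_cc]
  · simp only [ΘΘ, gg_app, aa_app, biprod.lift_snd, biprod.inr_desc_assoc, Category.assoc,
      homEquiv_cc]

lemma homEquiv_ff (M I : X.Modules) (t : (GLL U V).obj M ⟶ I) :
    (adjLL (U ⊓ V)).homEquiv M I ((ff U V).app M ≫ t) = ΘΘ U V M I t ≫ (bb U V).app I := by
  have ht : t = biprod.desc (biprod.inl ≫ t) (biprod.inr ≫ t) := by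
    apply biprod.hom_ext' <;> simp
  conv_lhs => rw [ht]
  rw [ff_app, biprod.lift_desc, Preadditive.neg_comp, ← sub_eq_add_neg, homEquiv_sub,
    homEquiv_γγ, homEquiv_γγ, ΘΘ, bb_app, biprod.lift_desc, Preadditive.comp_neg,
    ← sub_eq_add_neg]

end Groth.Agent.H33.MV

namespace Groth.Agent.H33.MV

variable {X : Scheme.{u}} (U V : X.Opens)

/-- **The Mayer–Vietoris sequence for extension by zero is short exact** (for every module). -/
theorem shortExact_mvExtSC (hUV : U ⊔ V = ⊤) (M : X.Modules) : (mvExtSC U V M).ShortExact := by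
  have hSI : ∀ (I : X.Modules) [Injective I], (mvSC U V I).ShortExact := fun I _ =>
    (sectSES_mvSC U V hUV I).shortExact
  apply shortExact_of_hom_test
  · -- injectivity of `Hom(M, I) → Hom(X₂, I)`
    intro I _ e he
    have hm : Mono ((aa U V).app I) := (hSI I).mono_f
    have h1 : ΘΘ U V M I ((gg U V).app M ≫ e) = 0 := by
      have he' : (gg U V).app M ≫ e = 0 := he
      rw [he']
      apply biprod.hom_ext
      · simp only [ΘΘ, biprod.lift_fst, comp_zero, zero_comp, homEquiv_zero]
      · simp only [ΘΘ, biprod.lift_snd, comp_zero, zero_comp, homEquiv_zero]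
    rw [ΘΘ_gg] at h1
    rw [← cancel_mono ((aa U V).app I), h1, zero_comp]
  · -- surjectivity of `Hom(X₂, I) → Hom(X₁, I)`
    intro I _ s
    let σ := (hSI I).splittingOfInjective
    obtain ⟨t, ht⟩ := ΘΘ_surjective U V M I ((adjLL (U ⊓ V)).homEquiv M I s ≫ σ.s)
    refine ⟨t, ?_⟩
    apply ((adjLL (U ⊓ V)).homEquiv M I).injective
    show (adjLL (U ⊓ V)).homEquiv M I ((ff U V).app M ≫ t) = _
    rw [homEquiv_ff, ht, Category.assoc]
    have : σ.s ≫ (bb U V).app I = 𝟙 _ := σ.s_g
    rw [this, Category.comp_id]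
  · -- exactness in the middle
    intro I _ t ht
    have ht' : (ff U V).app M ≫ t = 0 := ht
    have h1 : ΘΘ U V M I t ≫ (bb U V).app I = 0 := by
      rw [← homEquiv_ff, ht', homEquiv_zero]
    have hm : Mono (mvSC U V I).f := (hSI I).mono_f
    let e : M ⟶ I := (hSI I).exact.lift (ΘΘ U V M I t) h1
    have he : e ≫ (aa U V).app I = ΘΘ U V M I t := (hSI I).exact.lift_f _ h1
    refine ⟨e, ?_⟩
    apply ΘΘ_injective U V M I
    show ΘΘ U V M I ((gg U V).app M ≫ e) = _
    rw [ΘΘ_gg, he]

end Groth.Agent.H33.MV
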