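import Mathlib
import Groth.Agent.H33.MV.ExtZero
import Groth.Agent.H33.MV.DerivedAbs

/-!
# The Mayer–Vietoris triangle for extension by zero
-/

set_option autoImplicit false
universe u
open CategoryTheory CategoryTheory.Limits CategoryTheory.Pretriangulated AlgebraicGeometry
  Scheme.Modules

attribute [local instance] HasDerivedCategory.standard

namespace Groth.Agent.H33.MV

variable {X : Scheme.{u}}

/-- identification of `Q(j_! j^* K)` with `j_! (E|_W)` -/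
lemma nonempty_vertex_iso_extZero (W : X.Opens) [PreservesFiniteLimits (CxOX.extZero W.ι)]
    [PreservesFiniteLimits (restrictFunctor W.ι)]
    (K : CochainComplex X.Modules ℤ) (E : DerivedCategory X.Modules)
    (e₀ : DerivedCategory.Q.obj K ≅ E) :
    Nonempty (DerivedCategory.Q.obj (((LL W).mapHomologicalComplex (ComplexShape.up ℤ)).obj K) ≅
      (CxOX.extZeroD W.ι).obj ((DCoh.restrictD W.ι).obj E)) := by
  let K' : CochainComplex (W : Scheme.{u}).Modules ℤ :=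
    ((restrictFunctor W.ι).mapHomologicalComplex (ComplexShape.up ℤ)).obj K
  let i1 : ((LL W).mapHomologicalComplex (ComplexShape.up ℤ)).obj K ≅
      ((CxOX.extZero W.ι).mapHomologicalComplex (ComplexShape.up ℤ)).obj K' :=
    ((Functor.mapHomologicalComplexCompIso (Iso.refl (restrictFunctor W.ι ⋙ CxOX.extZero W.ι))
      (ComplexShape.up ℤ)).app K).symm
  let i2 : DerivedCategory.Q.obj
      (((CxOX.extZero W.ι).mapHomologicalComplex (ComplexShape.up ℤ)).obj K') ≅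
      (CxOX.extZeroD W.ι).obj (DerivedCategory.Q.obj K') :=
    ((CxOX.extZero W.ι).mapDerivedCategoryFactors.app K').symm
  let i3 : DerivedCategory.Q.obj K' ≅ (DCoh.restrictD W.ι).obj (DerivedCategory.Q.obj K) :=
    ((restrictFunctor W.ι).mapDerivedCategoryFactors.app K).symm
  exact ⟨DerivedCategory.Q.mapIso i1 ≪≫ i2 ≪≫
    (CxOX.extZeroD W.ι).mapIso (i3 ≪≫ (DCoh.restrictD W.ι).mapIso e₀)⟩

variable (U V : X.Opens)

theorem exists_mv_triangle_extZero (hUV : U ⊔ V = ⊤)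
    [PreservesFiniteLimits (CxOX.extZero U.ι)] [PreservesFiniteLimits (CxOX.extZero V.ι)]
    [PreservesFiniteLimits (CxOX.extZero (U ⊓ V).ι)] (E : DerivedCategory X.Modules) :
    ∃ (a : (CxOX.extZeroD (U ⊓ V).ι).obj ((DCoh.restrictD (U ⊓ V).ι).obj E) ⟶
        ((CxOX.extZeroD U.ι).obj ((DCoh.restrictD U.ι).obj E) ⊞
          (CxOX.extZeroD V.ι).obj ((DCoh.restrictD V.ι).obj E)))
      (b : ((CxOX.extZeroD U.ι).obj ((DCoh.restrictD U.ι).obj E) ⊞
          (CxOX.extZeroD V.ι).obj ((DCoh.restrictD V.ι).obj E)) ⟶ E)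
      (c : E ⟶ ((CxOX.extZeroD (U ⊓ V).ι).obj ((DCoh.restrictD (U ⊓ V).ι).obj E))⟦(1 : ℤ)⟧),
      Triangle.mk a b c ∈ distTriang (DerivedCategory X.Modules) := by
  let K := DerivedCategory.Q.objPreimage E
  let e₀ : DerivedCategory.Q.obj K ≅ E := DerivedCategory.Q.objObjPreimageIso E
  obtain ⟨c₀, hT₀⟩ := exists_triangle_of_natTrans (ff U V) (gg U V) (ff_gg_app U V) K
    (fun n => shortExact_mvExtSC U V hUV (K.X n))
  obtain ⟨v₁⟩ := nonempty_vertex_iso_extZero (U ⊓ V) K E e₀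
  obtain ⟨wU⟩ := nonempty_vertex_iso_extZero U K E e₀
  obtain ⟨wV⟩ := nonempty_vertex_iso_extZero V K E e₀
  let v₃ : DerivedCategory.Q.obj (((𝟭 X.Modules).mapHomologicalComplex
      (ComplexShape.up ℤ)).obj K) ≅ E :=
    DerivedCategory.Q.mapIso ((Functor.mapHomologicalComplexIdIso _ _).app K) ≪≫ e₀
  obtain ⟨v₂'⟩ := nonempty_iso_biprod_of_natTrans
    (inlGL U V) (inrGL U V) (fstGL U V) (sndGL U V)
    (fun M => by dsimp [inlGL, fstGL]; exact biprod.inl_fst)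
    (fun M => by dsimp [inlGL, sndGL]; exact biprod.inl_snd)
    (fun M => by dsimp [inrGL, fstGL]; exact biprod.inr_fst)
    (fun M => by dsimp [inrGL, sndGL]; exact biprod.inr_snd)
    (fun M => by dsimp [inlGL, inrGL, fstGL, sndGL]; exact biprod.total) K
  let v₂ := v₂' ≪≫ biprod.mapIso wU wV
  obtain ⟨qa, hqa⟩ : ∃ qa, qa = DerivedCategory.Q.map
      ((NatTrans.mapHomologicalComplex (ff U V) (ComplexShape.up ℤ)).app K) := ⟨_, rfl⟩
  obtain ⟨qb, hqb⟩ : ∃ qb, qb = DerivedCategory.Q.map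
      ((NatTrans.mapHomologicalComplex (gg U V) (ComplexShape.up ℤ)).app K) := ⟨_, rfl⟩
  rw [← hqa, ← hqb] at hT₀
  refine ⟨v₁.inv ≫ qa ≫ v₂.hom, v₂.inv ≫ qb ≫ v₃.hom, v₃.inv ≫ c₀ ≫ v₁.hom⟦(1 : ℤ)⟧', ?_⟩
  refine isomorphic_distinguished _ hT₀ _ (Triangle.isoMk _ _ v₁.symm v₂.symm v₃.symm ?_ ?_ ?_)
  · show (v₁.inv ≫ qa ≫ v₂.hom) ≫ v₂.inv = v₁.inv ≫ qa
    rw [Category.assoc, Category.assoc, Iso.hom_inv_id, Category.comp_id]
  · show (v₂.inv ≫ qb ≫ v₃.hom) ≫ v₃.inv = v₂.inv ≫ qb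
    rw [Category.assoc, Category.assoc, Iso.hom_inv_id, Category.comp_id]
  · show (v₃.inv ≫ c₀ ≫ v₁.hom⟦(1 : ℤ)⟧') ≫ v₁.inv⟦(1 : ℤ)⟧' = v₃.inv ≫ c₀
    rw [Category.assoc, Category.assoc, ← Functor.map_comp, Iso.hom_inv_id,
      CategoryTheory.Functor.map_id, Category.comp_id]

end Groth.Agent.H33.MV
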